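import Mathlib
import Cfsg.Prelude.Def_Transfer

/-! Ladder U5 (S3171): the model `W = U₅(2)` (upper unitriangular 5×5 matrices over `F₂`) of the
Sylow 2-subgroup of `M₂₄`, and `X = W / Z(W)` (forget the corner entry). -/

set_option autoImplicit false

namespace Cfsg.Agent.Lib.Helper33.U5

/-- `U₅(2)`; the field `xij` is the matrix entry `(i,j)`, `0 ≤ i < j ≤ 4`. -/
@[ext] structure W where
  x01 : ZMod 2
  x12 : ZMod 2
  x23 : ZMod 2
  x34 : ZMod 2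
  x02 : ZMod 2
  x13 : ZMod 2
  x24 : ZMod 2
  x03 : ZMod 2
  x14 : ZMod 2
  x04 : ZMod 2
  deriving DecidableEq

instance : Fintype W := Fintype.ofEquiv
  (ZMod 2 × ZMod 2 × ZMod 2 × ZMod 2 × ZMod 2 × ZMod 2 × ZMod 2 × ZMod 2 × ZMod 2 × ZMod 2)
  { toFun := fun ⟨a, b, c, d, e, f, g, h, i, j⟩ => ⟨a, b, c, d, e, f, g, h, i, j⟩
    invFun := fun ⟨a, b, c, d, e, f, g, h, i, j⟩ => ⟨a, b, c, d, e, f, g, h, i, j⟩
    left_inv := fun _ => rfl
    right_inv := fun _ => rfl }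

/-- `U₅(2) / Z`: the same without the corner entry `(0,4)`. -/
@[ext] structure X where
  x01 : ZMod 2
  x12 : ZMod 2
  x23 : ZMod 2
  x34 : ZMod 2
  x02 : ZMod 2
  x13 : ZMod 2
  x24 : ZMod 2
  x03 : ZMod 2
  x14 : ZMod 2
  deriving DecidableEq

instance : Fintype X := Fintype.ofEquiv
  (ZMod 2 × ZMod 2 × ZMod 2 × ZMod 2 × ZMod 2 × ZMod 2 × ZMod 2 × ZMod 2 × ZMod 2)
  { toFun := fun ⟨a, b, c, d, e, f, g, h, i⟩ => ⟨a, b, c, d, e, f, g, h, i⟩
    invFun := fun ⟨a, b, c, d, e, f, g, h, i⟩ => ⟨a, b, c, d, e, f, g, h, i⟩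
    left_inv := fun _ => rfl
    right_inv := fun _ => rfl }

namespace W

instance : Mul W := ⟨fun a b =>
  { x01 := a.x01 + b.x01
    x12 := a.x12 + b.x12
    x23 := a.x23 + b.x23
    x34 := a.x34 + b.x34
    x02 := a.x02 + b.x02 + a.x01 * b.x12
    x13 := a.x13 + b.x13 + a.x12 * b.x23
    x24 := a.x24 + b.x24 + a.x23 * b.x34
    x03 := a.x03 + b.x03 + a.x01 * b.x13 + a.x02 * b.x23
    x14 := a.x14 + b.x14 + a.x12 * b.x24 + a.x13 * b.x34
    x04 := a.x04 + b.x04 + a.x01 * b.x14 + a.x02 * b.x24 + a.x03 * b.x34 }⟩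

instance : One W := ⟨⟨0, 0, 0, 0, 0, 0, 0, 0, 0, 0⟩⟩

instance : Inv W := ⟨fun a =>
  { x01 := a.x01
    x12 := a.x12
    x23 := a.x23
    x34 := a.x34
    x02 := a.x02 + a.x01 * a.x12
    x13 := a.x13 + a.x12 * a.x23
    x24 := a.x24 + a.x23 * a.x34
    x03 := a.x03 + a.x01 * a.x13 + (a.x02 + a.x01 * a.x12) * a.x23
    x14 := a.x14 + a.x12 * a.x24 + (a.x13 + a.x12 * a.x23) * a.x34
    x04 := a.x04 + a.x01 * a.x14 + (a.x02 + a.x01 * a.x12) * a.x24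
      + (a.x03 + a.x01 * a.x13 + (a.x02 + a.x01 * a.x12) * a.x23) * a.x34 }⟩

@[simp] theorem mul_x01 (a b : W) : (a * b).x01 = a.x01 + b.x01 := rfl
@[simp] theorem mul_x12 (a b : W) : (a * b).x12 = a.x12 + b.x12 := rfl
@[simp] theorem mul_x23 (a b : W) : (a * b).x23 = a.x23 + b.x23 := rfl
@[simp] theorem mul_x34 (a b : W) : (a * b).x34 = a.x34 + b.x34 := rfl
@[simp] theorem mul_x02 (a b : W) : (a * b).x02 = a.x02 + b.x02 + a.x01 * b.x12 := rfl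
@[simp] theorem mul_x13 (a b : W) : (a * b).x13 = a.x13 + b.x13 + a.x12 * b.x23 := rfl
@[simp] theorem mul_x24 (a b : W) : (a * b).x24 = a.x24 + b.x24 + a.x23 * b.x34 := rfl
@[simp] theorem mul_x03 (a b : W) :
    (a * b).x03 = a.x03 + b.x03 + a.x01 * b.x13 + a.x02 * b.x23 := rfl
@[simp] theorem mul_x14 (a b : W) :
    (a * b).x14 = a.x14 + b.x14 + a.x12 * b.x24 + a.x13 * b.x34 := rfl
@[simp] theorem mul_x04 (a b : W) :
    (a * b).x04 = a.x04 + b.x04 + a.x01 * b.x14 + a.x02 * b.x24 + a.x03 * b.x34 := rfl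
@[simp] theorem one_x01 : (1 : W).x01 = 0 := rfl
@[simp] theorem one_x12 : (1 : W).x12 = 0 := rfl
@[simp] theorem one_x23 : (1 : W).x23 = 0 := rfl
@[simp] theorem one_x34 : (1 : W).x34 = 0 := rfl
@[simp] theorem one_x02 : (1 : W).x02 = 0 := rfl
@[simp] theorem one_x13 : (1 : W).x13 = 0 := rfl
@[simp] theorem one_x24 : (1 : W).x24 = 0 := rfl
@[simp] theorem one_x03 : (1 : W).x03 = 0 := rfl
@[simp] theorem one_x14 : (1 : W).x14 = 0 := rfl
@[simp] theorem one_x04 : (1 : W).x04 = 0 := rfl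

instance : Group W := Group.ofLeftAxioms
  (fun a b c => by ext <;> simp <;> ring)
  (fun a => by ext <;> simp)
  (by decide +kernel)

end W

namespace X

instance : Mul X := ⟨fun a b =>
  { x01 := a.x01 + b.x01
    x12 := a.x12 + b.x12
    x23 := a.x23 + b.x23
    x34 := a.x34 + b.x34
    x02 := a.x02 + b.x02 + a.x01 * b.x12
    x13 := a.x13 + b.x13 + a.x12 * b.x23
    x24 := a.x24 + b.x24 + a.x23 * b.x34
    x03 := a.x03 + b.x03 + a.x01 * b.x13 + a.x02 * b.x23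
    x14 := a.x14 + b.x14 + a.x12 * b.x24 + a.x13 * b.x34 }⟩

instance : One X := ⟨⟨0, 0, 0, 0, 0, 0, 0, 0, 0⟩⟩

instance : Inv X := ⟨fun a =>
  { x01 := a.x01
    x12 := a.x12
    x23 := a.x23
    x34 := a.x34
    x02 := a.x02 + a.x01 * a.x12
    x13 := a.x13 + a.x12 * a.x23
    x24 := a.x24 + a.x23 * a.x34
    x03 := a.x03 + a.x01 * a.x13 + (a.x02 + a.x01 * a.x12) * a.x23
    x14 := a.x14 + a.x12 * a.x24 + (a.x13 + a.x12 * a.x23) * a.x34 }⟩

@[simp] theorem mul_x01 (a b : X) : (a * b).x01 = a.x01 + b.x01 := rfl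
@[simp] theorem mul_x12 (a b : X) : (a * b).x12 = a.x12 + b.x12 := rfl
@[simp] theorem mul_x23 (a b : X) : (a * b).x23 = a.x23 + b.x23 := rfl
@[simp] theorem mul_x34 (a b : X) : (a * b).x34 = a.x34 + b.x34 := rfl
@[simp] theorem mul_x02 (a b : X) : (a * b).x02 = a.x02 + b.x02 + a.x01 * b.x12 := rfl
@[simp] theorem mul_x13 (a b : X) : (a * b).x13 = a.x13 + b.x13 + a.x12 * b.x23 := rfl
@[simp] theorem mul_x24 (a b : X) : (a * b).x24 = a.x24 + b.x24 + a.x23 * b.x34 := rfl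
@[simp] theorem mul_x03 (a b : X) :
    (a * b).x03 = a.x03 + b.x03 + a.x01 * b.x13 + a.x02 * b.x23 := rfl
@[simp] theorem mul_x14 (a b : X) :
    (a * b).x14 = a.x14 + b.x14 + a.x12 * b.x24 + a.x13 * b.x34 := rfl
@[simp] theorem one_x01 : (1 : X).x01 = 0 := rfl
@[simp] theorem one_x12 : (1 : X).x12 = 0 := rfl
@[simp] theorem one_x23 : (1 : X).x23 = 0 := rfl
@[simp] theorem one_x34 : (1 : X).x34 = 0 := rfl
@[simp] theorem one_x02 : (1 : X).x02 = 0 := rfl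
@[simp] theorem one_x13 : (1 : X).x13 = 0 := rfl
@[simp] theorem one_x24 : (1 : X).x24 = 0 := rfl
@[simp] theorem one_x03 : (1 : X).x03 = 0 := rfl
@[simp] theorem one_x14 : (1 : X).x14 = 0 := rfl
@[simp] theorem inv_x01 (a : X) : (a⁻¹).x01 = a.x01 := rfl
@[simp] theorem inv_x12 (a : X) : (a⁻¹).x12 = a.x12 := rfl
@[simp] theorem inv_x23 (a : X) : (a⁻¹).x23 = a.x23 := rfl
@[simp] theorem inv_x34 (a : X) : (a⁻¹).x34 = a.x34 := rfl
@[simp] theorem inv_x02 (a : X) : (a⁻¹).x02 = a.x02 + a.x01 * a.x12 := rfl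
@[simp] theorem inv_x13 (a : X) : (a⁻¹).x13 = a.x13 + a.x12 * a.x23 := rfl
@[simp] theorem inv_x24 (a : X) : (a⁻¹).x24 = a.x24 + a.x23 * a.x34 := rfl

instance : Group X := Group.ofLeftAxioms
  (fun a b c => by ext <;> simp <;> ring)
  (fun a => by ext <;> simp)
  (by decide +kernel)

end X

/-- forget the corner entry -/
def toX : W →* X where
  toFun a := ⟨a.x01, a.x12, a.x23, a.x34, a.x02, a.x13, a.x24, a.x03, a.x14⟩
  map_one' := rfl
  map_mul' _ _ := rfl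

/-- the image of the extraspecial group `2^{1+6}`: first row and last column -/
def A0 : Subgroup X where
  carrier := {a | a.x12 = 0 ∧ a.x23 = 0 ∧ a.x13 = 0}
  mul_mem' := by
    rintro a b ⟨h1, h2, h3⟩ ⟨h4, h5, h6⟩
    refine ⟨?_, ?_, ?_⟩ <;> simp [h1, h2, h3, h4, h5, h6]
  one_mem' := ⟨rfl, rfl, rfl⟩
  inv_mem' := by
    rintro a ⟨h1, h2, h3⟩
    refine ⟨?_, ?_, ?_⟩ <;> simp [h1, h2, h3]

theorem mem_A0 {a : X} : a ∈ A0 ↔ a.x12 = 0 ∧ a.x23 = 0 ∧ a.x13 = 0 := Iff.rfl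

/-- the statement of S3171 for an abstract group -/
def Phi (Y : Type*) [Group Y] : Prop :=
  (∀ M : Subgroup Y, IsCoatom M → Nat.card ↥(Subgroup.center ↥M) ≤ 8) ∧
    (∃ A : Subgroup Y, Cfsg.IsElementaryAbelian 2 A ∧ Nat.card ↥A = 64) ∧
    ∀ A B : Subgroup Y, IsMulCommutative ↥A → Nat.card ↥A = 64 → IsMulCommutative ↥B →
      Nat.card ↥B = 64 → A = B

end Cfsg.Agent.Lib.Helper33.U5
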